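import Groth.Agent.FontLift.Taylor
import Groth.Agent.AdicLim.Noetherian

/-!
Chevalley's lemma over a complete discrete valuation ring, and the limit of Newton's method.
-/
set_option autoImplicit false
set_option linter.style.haveILetI false
set_option linter.unusedSectionVars false
universe u w

namespace Groth.Agent.FontLift
open W4c1noabschz1 MvPolynomial IsLocalRing

variable (O : Type u) [CommRing O] [IsLocalRing O] [IsNoetherianRing O]
  [IsAdicComplete (maximalIdeal O) O] (S : Type w) [CommRing S] [Algebra O S] [Module.Finite O S]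

/-- The ideal generated by the maximal ideal. -/
abbrev mS : Ideal S := (maximalIdeal O).map (algebraMap O S)

theorem isAdicComplete_mS : IsAdicComplete (mS O S) S := by
  haveI := AdicLim.isAdicComplete_of_finite (maximalIdeal O) S
  exact (IsAdicComplete.map_algebraMap_iff (S := S) (maximalIdeal O) S).2 inferInstance

theorem mem_of_forall_mem_sup (F : Ideal S) {x : S} (h : ∀ k, x ∈ F ⊔ mS O S ^ k) : x ∈ F := by
  haveI : IsNoetherianRing S := IsNoetherianRing.of_finite O S
  haveI := isAdicComplete_mS O S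
  haveI : IsHausdorff (mS O S) (S ⧸ F) := IsHausdorff.of_le_jacobson _ _ (IsAdicComplete.le_jacobson_bot _)
  rw [← Ideal.Quotient.eq_zero_iff_mem]
  refine IsHausdorff.haus' (I := mS O S) _ fun k => ?_
  rw [SModEq.zero, Ideal.smul_top_eq_map]
  obtain ⟨f, hf, y, hy, e⟩ := Submodule.mem_sup.1 (h k)
  rw [← e, map_add, Ideal.Quotient.eq_zero_iff_mem.2 hf, zero_add]
  exact Ideal.mem_map_of_mem _ hy

theorem isArtinianRing_quot (k : ℕ) : IsArtinianRing (S ⧸ mS O S ^ (k + 1)) := by
  haveI : IsArtinianRing (O ⧸ maximalIdeal O ^ (k + 1)) := by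
    haveI : Ring.KrullDimLE 0 (O ⧸ maximalIdeal O ^ (k + 1)) := Ring.KrullDimLE.mk₀ fun I hI => by
      haveI := hI
      set J := I.comap (Ideal.Quotient.mk (maximalIdeal O ^ (k + 1))) with hJ
      have h1 : maximalIdeal O ≤ J := (Ideal.IsPrime.pow_le_iff (Nat.succ_ne_zero k)).1
        (le_trans (le_of_eq Ideal.mk_ker.symm) (Ideal.ker_le_comap _))
      have h2 : J.IsMaximal := by
        rw [← (IsLocalRing.maximalIdeal.isMaximal O).eq_of_le (Ideal.IsPrime.ne_top inferInstance) h1]
        exact IsLocalRing.maximalIdeal.isMaximal O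
      rcases Ideal.map_eq_top_or_isMaximal_of_surjective (Ideal.Quotient.mk (maximalIdeal O ^ (k + 1)))
        Ideal.Quotient.mk_surjective h2 with h | h
      · rw [hJ, Ideal.map_comap_of_surjective _ Ideal.Quotient.mk_surjective] at h
        exact absurd h hI.ne_top
      · rwa [hJ, Ideal.map_comap_of_surjective _ Ideal.Quotient.mk_surjective] at h
    exact IsNoetherianRing.isArtinianRing_of_krullDimLE_zero
  have hle : maximalIdeal O ^ (k + 1) ≤ (mS O S ^ (k + 1)).comap (algebraMap O S) := by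
    rw [← Ideal.map_le_iff_le_comap, Ideal.map_pow]
  letI : Algebra (O ⧸ maximalIdeal O ^ (k + 1)) (S ⧸ mS O S ^ (k + 1)) :=
    (Ideal.quotientMap _ (algebraMap O S) hle).toAlgebra
  haveI : IsScalarTower O (O ⧸ maximalIdeal O ^ (k + 1)) (S ⧸ mS O S ^ (k + 1)) :=
    IsScalarTower.of_algebraMap_eq fun _ => rfl
  haveI : Module.Finite (O ⧸ maximalIdeal O ^ (k + 1)) (S ⧸ mS O S ^ (k + 1)) := Module.Finite.of_restrictScalars_finite O _ _
  exact IsArtinianRing.of_finite (O ⧸ maximalIdeal O ^ (k + 1)) _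

theorem stabilize (F : ℕ → Ideal S) (hF : Antitone F) (k : ℕ) :
    ∃ N, ∀ n, N ≤ n → F N ≤ F n ⊔ mS O S ^ (k + 1) := by
  haveI := isArtinianRing_quot O S k
  obtain ⟨N, hN⟩ := IsArtinian.monotone_stabilizes
    (⟨fun n => OrderDual.toDual ((F n).map (Ideal.Quotient.mk (mS O S ^ (k + 1)))),
      fun i j h => Ideal.map_mono (hF h)⟩ : ℕ →o (Ideal (S ⧸ mS O S ^ (k + 1)))ᵒᵈ)
  refine ⟨N, fun n hn x hx => ?_⟩
  have h : Ideal.Quotient.mk (mS O S ^ (k + 1)) x ∈ (F n).map (Ideal.Quotient.mk (mS O S ^ (k + 1))) := by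
    rw [← OrderDual.toDual.injective (hN n hn)]
    exact Ideal.mem_map_of_mem _ hx
  rwa [← Ideal.mem_comap, Ideal.comap_map_of_surjective _ Ideal.Quotient.mk_surjective,
    ← RingHom.ker_eq_comap_bot, Ideal.mk_ker] at h

/-- Chevalley's lemma. -/
theorem chevalley (F : ℕ → Ideal S) (hF : Antitone F) (h0 : ⨅ n, F n = ⊥) (k : ℕ) :
    ∃ n, F n ≤ mS O S ^ k := by
  haveI := isAdicComplete_mS O S
  choose N hN using stabilize O S F hF
  let N' : ℕ → ℕ := fun i => ∑ j ∈ Finset.range (i + 1), N j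
  have hle : ∀ i, N i ≤ N' i := fun i => Finset.single_le_sum (fun _ _ => Nat.zero_le _) (by simp)
  have hmono : ∀ i, N' i ≤ N' (i + 1) := fun i => by
    simp only [N']; rw [Finset.sum_range_succ _ (i + 1)]; omega
  refine ⟨N' k, fun x hx => ?_⟩
  have step : ∀ (i : ℕ) (y : S), y ∈ F (N' i) → ∃ z, z ∈ F (N' (i + 1)) ∧ y - z ∈ mS O S ^ (i + 1) := by
    intro i y hy
    obtain ⟨f, hf, m, hm, e⟩ := Submodule.mem_sup.1
      (hN i (N' (i + 1)) ((hle i).trans (hmono i)) (hF (hle i) hy))
    exact ⟨f, hf, by rwa [← e, add_sub_cancel_left]⟩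
  choose next hnext hcong using step
  let y : ∀ i, {z : S // z ∈ F (N' (k + i))} := fun i =>
    Nat.rec ⟨x, hx⟩ (fun i p => ⟨next (k + i) p.1 p.2, hnext (k + i) p.1 p.2⟩) i
  have hy : ∀ i, (y i).1 - (y (i + 1)).1 ∈ mS O S ^ (k + i + 1) := fun i => hcong (k + i) (y i).1 (y i).2
  have hy' : ∀ i j, i ≤ j → (y i).1 - (y j).1 ∈ mS O S ^ (k + i) := by
    intro i j hij
    induction j, hij using Nat.le_induction with
    | base => simp
    | succ j hij ih =>
      have := add_mem ih (Ideal.pow_le_pow_right (show k + i ≤ k + j + 1 by omega) (hy j))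
      simpa using this
  obtain ⟨L, hL⟩ := IsPrecomplete.prec (I := mS O S) inferInstance (f := fun i => (y i).1) fun {i j} hij => by
    rw [SModEq.sub_mem, smul_eq_mul, Ideal.mul_top]
    exact Ideal.pow_le_pow_right (show i ≤ k + i by omega) (hy' i j hij)
  have hL' : ∀ i, (y i).1 - L ∈ mS O S ^ i := fun i => by
    have := hL i
    rwa [SModEq.sub_mem, smul_eq_mul, Ideal.mul_top] at this
  have hN'mono : Monotone N' := monotone_nat_of_le_succ hmono
  have hid : ∀ i, i ≤ N' i + i := fun i => Nat.le_add_left _ _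
  have hzero : L = 0 := by
    rw [← Ideal.mem_bot, ← h0, Ideal.mem_iInf]
    intro n
    refine mem_of_forall_mem_sup O S _ fun l => ?_
    obtain ⟨f, hf, m, hm, e⟩ := Submodule.mem_sup.1 (hN (k + l) (max n (N (k + l))) (le_max_right _ _)
      (hF (hle (k + l)) (y l).2))
    refine Submodule.mem_sup.2 ⟨f, hF (le_max_left _ _) hf, L - f, ?_, add_sub_cancel _ _⟩
    have h1 : m ∈ mS O S ^ l := Ideal.pow_le_pow_right (by omega) hm
    have := sub_mem h1 (hL' l)
    convert this using 1
    rw [← e]; ring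
  have h1 : (y 0).1 - (y k).1 ∈ mS O S ^ k := by simpa using hy' 0 k (Nat.zero_le _)
  have h2 := hL' k
  rw [hzero, sub_zero] at h2
  simpa [y] using add_mem h1 h2

variable {O S}
variable {r : ℕ} {a : O} (P : Pres O r a) {I : Ideal S} (hI : DividedPowers I)

theorem aeval_congr (J : Ideal S) {s t : Fin r → S} (h : ∀ j, s j - t j ∈ J) (g : MvPolynomial (Fin r) O) :
    aeval s g - aeval t g ∈ J := by
  rw [← Ideal.Quotient.eq]
  exact DFunLike.congr_fun (MvPolynomial.algHom_ext (f := (Ideal.Quotient.mkₐ O J).comp (aeval s))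
    (g := (Ideal.Quotient.mkₐ O J).comp (aeval t)) fun j => by
      simp only [AlgHom.comp_apply, aeval_X, Ideal.Quotient.mkₐ_eq_mk]
      exact Ideal.Quotient.eq.2 (h j)) g

/-- An approximate point lifts to a point. -/
theorem Pres.exists_point (htn : IsDPTopNilpotent hI) {s : Fin r → S} (hs : P.Good (dpPow hI 1) s) :
    ∃ t : Fin r → S, (∀ j, t j - s j ∈ I) ∧ ∀ g ∈ P.K, aeval t g = 0 := by
  haveI := isAdicComplete_mS O S
  let next : ∀ n, {u : Fin r → S // P.Good (dpPow hI (n + 1)) u} →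
      {u : Fin r → S // P.Good (dpPow hI (n + 1 + 1)) u} := fun n u =>
    ⟨u.1 + (P.exists_step hI (Nat.le_add_left 1 n) u.2).choose,
      (P.exists_step hI (Nat.le_add_left 1 n) u.2).choose_spec.2⟩
  let q : ∀ n, {u : Fin r → S // P.Good (dpPow hI (n + 1)) u} := fun n => Nat.rec ⟨s, hs⟩ next n
  have hq : ∀ i l, i ≤ l → ∀ j, (q l).1 j - (q i).1 j ∈ dpPow hI (i + 1) := by
    intro i l hil j
    induction l, hil using Nat.le_induction with
    | base => simp
    | succ l hil ih =>
      have h := (P.exists_step hI (Nat.le_add_left 1 l) (q l).2).choose_spec.1 j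
      have := add_mem ih (dpPow_anti hI (show i + 1 ≤ l + 1 by omega) h)
      convert this using 1
      show (q l).1 j + _ - _ = _
      ring
  have hF : Antitone (dpPow hI) := fun _ _ h => dpPow_anti hI h
  choose n hn using chevalley O S (dpPow hI) hF htn
  let n' : ℕ → ℕ := fun k => ∑ i ∈ Finset.range (k + 1), n i
  have hn' : ∀ k, dpPow hI (n' k + 1) ≤ mS O S ^ k := fun k => (hF ((Finset.single_le_sum
    (f := n) (fun _ _ => Nat.zero_le _) (Finset.mem_range.2 k.lt_succ_self)).trans (Nat.le_succ _))).trans (hn k)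
  have hmono : Monotone n' := monotone_nat_of_le_succ fun k => by
    simp only [n']; rw [Finset.sum_range_succ _ (k + 1)]; omega
  have hlim : ∀ j, ∃ L, ∀ k, (q (n' k)).1 j - L ∈ mS O S ^ k := fun j => by
    obtain ⟨L, hL⟩ := IsPrecomplete.prec (I := mS O S) inferInstance (f := fun k => (q (n' k)).1 j)
      fun {i l} hil => by
        rw [SModEq.sub_mem, smul_eq_mul, Ideal.mul_top, ← neg_sub]
        exact neg_mem (hn' i (hq _ _ (hmono hil) j))
    exact ⟨L, fun k => by simpa [SModEq.sub_mem, smul_eq_mul, Ideal.mul_top] using hL k⟩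
  choose t ht using hlim
  refine ⟨t, fun j => mem_of_forall_mem_sup O S I fun k => ?_, fun g hg => ?_⟩
  · refine Submodule.mem_sup.2 ⟨_, dpPow_le_ideal hI le_rfl (hq 0 (n' k) (Nat.zero_le _) j),
      t j - (q (n' k)).1 j, ?_, ?_⟩
    · rw [← neg_sub]; exact neg_mem (ht j k)
    · exact (fun u v w => by ring : ∀ u v w : S, (u - v) + (w - u) = w - v) _ _ _
  · rw [← Ideal.mem_bot]
    refine mem_of_forall_mem_sup O S ⊥ fun k => Ideal.mem_sup_right ?_
    have h1 : aeval (q (n' k)).1 g ∈ mS O S ^ k :=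
      hn' k (Ideal.mul_le_right (I := Ideal.span {algebraMap O S a}) (J := dpPow hI (n' k + 1))
        ((q (n' k)).2 g hg))
    have h2 := sub_mem h1 (aeval_congr (mS O S ^ k) (fun j => ht j k) g)
    simpa using h2

omit [IsLocalRing O] [IsNoetherianRing O] [IsAdicComplete (maximalIdeal O) O] [Module.Finite O S] in
/-- Two points congruent modulo `I` are equal. -/
theorem Pres.point_unique (htn : IsDPTopNilpotent hI) (hreg : ∀ x : S, algebraMap O S a * x = 0 → x = 0)
    {s t : Fin r → S} (hs : ∀ g ∈ P.K, aeval s g = 0) (ht : ∀ g ∈ P.K, aeval t g = 0)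
    (h : ∀ j, t j - s j ∈ I) : t = s := by
  have key : ∀ n, 1 ≤ n → ∀ j, t j - s j ∈ dpPow hI n := by
    intro n hn
    induction n, hn using Nat.le_induction with
    | base => exact fun j => ideal_le_dpPow_one hI (h j)
    | succ n hn ih =>
      intro j
      have h1 := P.eval_gen hI hn (s := s) (fun g hg => by rw [hs g hg]; exact zero_mem _)
        (δ := fun i => t i - s i) ih j
      have h2 : s + (fun i => t i - s i) = t := by ext i; simp
      rw [h2, hs _ (P.gen_mem j), ht _ (P.gen_mem j), sub_zero, zero_sub] at h1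
      obtain ⟨w, hw, e⟩ := Ideal.mem_span_singleton_mul.1 h1
      have h3 : algebraMap O S a * ((t j - s j) + w) = 0 := by rw [mul_add, e, add_neg_cancel]
      rw [eq_neg_of_add_eq_zero_left (hreg _ h3)]
      exact neg_mem hw
  ext j
  rw [← sub_eq_zero, ← Ideal.mem_bot, ← htn, Ideal.mem_iInf]
  exact fun n => dpPow_anti hI (Nat.le_succ n) (key (n + 1) (by omega) j)

end Groth.Agent.FontLift
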