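import Mathlib
import Groth.Prelude.Def_W4c1noabschz1DP

/-!
The divided power filtration: products and divided powers of its members.
-/
set_option autoImplicit false
universe w

namespace Groth.Agent.FontLift
open W4c1noabschz1

variable {S : Type w} [CommRing S] {I : Ideal S} (hI : DividedPowers I)

/-- The generators of `dpPow hI m`. -/
def gens (m : ℕ) : Set S :=
  {z : S | ∃ (r : ℕ) (x : Fin r → S) (n : Fin r → ℕ),
    (∀ i, x i ∈ I) ∧ m ≤ ∑ i, n i ∧ z = ∏ i, hI.dpow (n i) (x i)}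

theorem dpPow_eq (m : ℕ) : dpPow hI m = Ideal.span (gens hI m) := rfl

theorem dpPow_anti {m n : ℕ} (h : m ≤ n) : dpPow hI n ≤ dpPow hI m :=
  Ideal.span_mono fun _ ⟨r, x, e, hx, he, hz⟩ => ⟨r, x, e, hx, h.trans he, hz⟩

theorem gens_mul {a b : ℕ} {u v : S} (hu : u ∈ gens hI a) (hv : v ∈ gens hI b) : u * v ∈ gens hI (a + b) := by
  obtain ⟨r, x, n, hx, hn, rfl⟩ := hu
  obtain ⟨r', x', n', hx', hn', rfl⟩ := hv
  refine ⟨r + r', Fin.append x x', Fin.append n n', Fin.addCases (fun i => by simpa using hx i)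
    (fun i => by simpa using hx' i), ?_, ?_⟩
  · rw [Fin.sum_univ_add]
    simpa using add_le_add hn hn'
  · rw [Fin.prod_univ_add]
    simp

theorem dpPow_mul (a b : ℕ) : dpPow hI a * dpPow hI b ≤ dpPow hI (a + b) := by
  rw [dpPow_eq, dpPow_eq, dpPow_eq, Ideal.span_mul_span']
  refine Ideal.span_mono ?_
  rintro _ ⟨u, hu, v, hv, rfl⟩
  exact gens_mul hI hu hv

theorem mul_mem_dpPow {a b m : ℕ} {u v : S} (hu : u ∈ dpPow hI a) (hv : v ∈ dpPow hI b) (h : m ≤ a + b) :
    u * v ∈ dpPow hI m :=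
  dpPow_anti hI h (dpPow_mul hI a b (Ideal.mul_mem_mul hu hv))

theorem dpow_mem_gens {x : S} (hx : x ∈ I) (k : ℕ) : hI.dpow k x ∈ gens hI k :=
  ⟨1, fun _ => x, fun _ => k, fun _ => hx, by simp, by simp⟩

theorem dpPow_le_ideal {n : ℕ} (hn : 1 ≤ n) : dpPow hI n ≤ I := by
  refine Ideal.span_le.2 ?_
  rintro _ ⟨r, x, e, hx, he, rfl⟩
  obtain ⟨i, hi⟩ : ∃ i, e i ≠ 0 := by
    by_contra h
    push Not at h
    simp [h] at he
    omega
  rw [← Finset.mul_prod_erase _ _ (Finset.mem_univ i)]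
  exact I.mul_mem_right _ (hI.dpow_mem hi (hx i))

theorem ideal_le_dpPow_one : I ≤ dpPow hI 1 := fun x hx => by
  rw [← hI.dpow_one hx]
  exact Ideal.subset_span (dpow_mem_gens hI hx 1)

theorem dpPow_one_eq : dpPow hI 1 = I := le_antisymm (dpPow_le_ideal hI le_rfl) (ideal_le_dpPow_one hI)

theorem gens_pow {a : ℕ} {u : S} (hu : u ∈ gens hI a) : ∀ k : ℕ, u ^ k ∈ gens hI (k * a)
  | 0 => ⟨0, Fin.elim0, Fin.elim0, fun i => i.elim0, by simp, by simp⟩
  | k + 1 => by
    rw [pow_succ, add_mul, one_mul]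
    exact gens_mul hI (gens_pow hu k) hu

/-- `γ_k` sends the `n`-th step into the `n`-th one, and into the next one if `k ≥ 2`. -/
theorem dpow_mem_dpPow {n : ℕ} (hn : 1 ≤ n) {δ : S} (hδ : δ ∈ dpPow hI n) :
    ∀ k : ℕ, (1 ≤ k → hI.dpow k δ ∈ dpPow hI n) ∧ (2 ≤ k → hI.dpow k δ ∈ dpPow hI (n + 1)) := by
  induction hδ using Submodule.span_induction with
  | mem z hz =>
    intro k
    suffices h : hI.dpow k z ∈ dpPow hI (k * n) from
      ⟨fun hk => dpPow_anti hI (Nat.le_mul_of_pos_left n hk) h,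
        fun hk => dpPow_anti hI (by nlinarith) h⟩
    obtain ⟨r, x, e, hx, he, rfl⟩ := hz
    obtain ⟨i, hi⟩ : ∃ i, e i ≠ 0 := by
      by_contra h
      push Not at h
      simp [h] at he
      omega
    rw [← Finset.mul_prod_erase _ _ (Finset.mem_univ i), mul_comm (hI.dpow (e i) (x i)), hI.dpow_mul (hI.dpow_mem hi (hx i)),
      hI.dpow_comp hi (hx i)]
    have h1 : (∏ j ∈ Finset.univ.erase i, hI.dpow (e j) (x j)) ∈
        gens hI (∑ j ∈ Finset.univ.erase i, e j) := by
      induction (Finset.univ.erase i : Finset (Fin r)) using Finset.induction_on with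
      | empty => exact ⟨0, Fin.elim0, Fin.elim0, fun j => j.elim0, by simp, by simp⟩
      | @insert j s hj ih =>
        rw [Finset.prod_insert hj, Finset.sum_insert hj]
        exact gens_mul hI (dpow_mem_gens hI (hx j) _) ih
    have h2 := gens_mul hI (gens_pow hI h1 k) (dpow_mem_gens hI (hx i) (k * e i))
    rw [← mul_assoc, mul_comm _ ((Nat.uniformBell k (e i) : ℕ) : S), mul_assoc]
    refine Ideal.mul_mem_left _ _ (dpPow_anti hI ?_ (Ideal.subset_span h2))
    rw [← mul_add, Finset.sum_erase_add _ _ (Finset.mem_univ i)]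
    exact Nat.mul_le_mul le_rfl he
  | zero =>
    intro k
    exact ⟨fun hk => by rw [hI.dpow_eval_zero (by omega)]; exact zero_mem _,
      fun hk => by rw [hI.dpow_eval_zero (by omega)]; exact zero_mem _⟩
  | add x y hx hy ihx ihy =>
    intro k
    have hx' : x ∈ I := dpPow_le_ideal hI hn hx
    have hy' : y ∈ I := dpPow_le_ideal hI hn hy
    rw [hI.dpow_add hx' hy']
    refine ⟨fun hk => sum_mem fun ab hab => ?_, fun hk => sum_mem fun ab hab => ?_⟩
    · rw [Finset.HasAntidiagonal.mem_antidiagonal] at hab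
      rcases Nat.eq_zero_or_pos ab.1 with h | h
      · exact Ideal.mul_mem_left _ _ ((ihy ab.2).1 (by omega))
      · exact Ideal.mul_mem_right _ _ ((ihx ab.1).1 h)
    · rw [Finset.HasAntidiagonal.mem_antidiagonal] at hab
      rcases Nat.eq_zero_or_pos ab.1 with h | h
      · exact Ideal.mul_mem_left _ _ ((ihy ab.2).2 (by omega))
      rcases Nat.eq_zero_or_pos ab.2 with h' | h'
      · exact Ideal.mul_mem_right _ _ ((ihx ab.1).2 (by omega))
      exact mul_mem_dpPow hI ((ihx ab.1).1 h) ((ihy ab.2).1 h') (by omega)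
  | smul c x hx ih =>
    intro k
    rw [smul_eq_mul, hI.dpow_mul (dpPow_le_ideal hI hn hx)]
    exact ⟨fun hk => Ideal.mul_mem_left _ _ ((ih k).1 hk), fun hk => Ideal.mul_mem_left _ _ ((ih k).2 hk)⟩

end Groth.Agent.FontLift
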