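import Mathlib

/-!
First order expansions and derivations of quotients.
-/
set_option autoImplicit false
universe u v w z

namespace Groth.Agent.FontLift
open MvPolynomial

variable {O : Type u} [CommRing O] {r : ℕ}

theorem deriv_aeval {A : Type v} [CommRing A] [Algebra O A] {M : Type w} [AddCommGroup M] [Module A M]
    [Module O M] [IsScalarTower O A M] (D : Derivation O A M) (y : Fin r → A) (g : MvPolynomial (Fin r) O) :
    D (aeval y g) = ∑ j, aeval y (pderiv j g) • D (y j) := by
  induction g using MvPolynomial.induction_on with
  | C c => simp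
  | add p q hp hq => simp only [map_add, hp, hq, add_smul, Finset.sum_add_distrib]
  | mul_X p i hp =>
    have h : ∀ j, aeval y (pderiv j (p * X i)) • D (y j) =
        y i • (aeval y (pderiv j p) • D (y j)) + (if j = i then aeval y p • D (y j) else 0) := by
      intro j
      rw [pderiv_mul, map_add, map_mul, map_mul, add_smul, aeval_X, smul_smul, mul_comm (y i)]
      congr 1
      rcases eq_or_ne j i with rfl | h
      · simp
      · rw [pderiv_X_of_ne (Ne.symm h), map_zero, mul_zero, zero_smul, if_neg h]
    rw [map_mul, aeval_X, Derivation.leibniz, hp, Finset.smul_sum, Finset.sum_congr rfl fun j _ => h j,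
      Finset.sum_add_distrib, Finset.sum_ite_eq', if_pos (Finset.mem_univ _), add_comm]

theorem aeval_first_order {B : Type v} [CommRing B] [Algebra O B] (J : Ideal B) (hJ : J ^ 2 = ⊥)
    (x c : Fin r → B) (h : ∀ j, c j - x j ∈ J) (g : MvPolynomial (Fin r) O) :
    aeval c g = aeval x g + ∑ j, aeval x (pderiv j g) * (c j - x j) := by
  induction g using MvPolynomial.induction_on with
  | C r => simp
  | add p q hp hq =>
    simp only [map_add, add_mul, Finset.sum_add_distrib, hp, hq]
    abel
  | mul_X p i hp =>
    have h0 : ∀ j, (c j - x j) * (c i - x i) = 0 := fun j => by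
      rw [← Ideal.mem_bot, ← hJ, pow_two]; exact Ideal.mul_mem_mul (h j) (h i)
    have h1 : (∑ j, aeval x (pderiv j p) * (c j - x j)) * (c i - x i) = 0 := by
      rw [Finset.sum_mul]
      exact Finset.sum_eq_zero fun j _ => by rw [mul_assoc, h0, mul_zero]
    have h2 : ∑ j, aeval x (pderiv j (p * X i)) * (c j - x j) =
        (∑ j, aeval x (pderiv j p) * (c j - x j)) * x i + aeval x p * (c i - x i) := by
      have : ∀ j, aeval x (pderiv j (p * X i)) * (c j - x j) =
          aeval x (pderiv j p) * (c j - x j) * x i + (if j = i then aeval x p * (c j - x j) else 0) := by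
        intro j
        rw [pderiv_mul, map_add, map_mul, map_mul, aeval_X, add_mul, mul_right_comm]
        congr 1
        rcases eq_or_ne j i with rfl | h
        · simp
        · rw [pderiv_X_of_ne (Ne.symm h), map_zero, mul_zero, zero_mul, if_neg h]
      rw [Finset.sum_congr rfl fun j _ => this j, Finset.sum_add_distrib, ← Finset.sum_mul, Finset.sum_ite_eq',
        if_pos (Finset.mem_univ _)]
    rw [map_mul, map_mul, aeval_X, aeval_X, hp, h2]
    linear_combination h1

variable {A : Type v} [CommRing A] [Algebra O A] {P : Type w} [CommRing P] [Algebra O P]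

/-- A derivation along `q` which kills the kernel of `q` descends. -/
theorem exists_desc {M : Type z} [AddCommGroup M] [Module A M] [Module O M] [IsScalarTower O A M]
    (q : P →ₐ[O] A) (hq : Function.Surjective q) (d : P →ₗ[O] M)
    (hd : ∀ x y, d (x * y) = q x • d y + q y • d x) (h0 : ∀ k, q k = 0 → d k = 0) :
    ∃ δ : Derivation O A M, ∀ x, δ (q x) = d x := by
  let g := Function.surjInv hq
  have hg : ∀ a, q (g a) = a := Function.surjInv_eq hq
  have hkey : ∀ x a, q x = a → d (g a) = d x := fun x a h => by
    rw [← sub_eq_zero, ← map_sub]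
    exact h0 _ (by rw [map_sub, hg, h, sub_self])
  let l : A →ₗ[O] M :=
    { toFun := fun a => d (g a)
      map_add' := fun a b => by
        rw [hkey (g a + g b) _ (by rw [map_add, hg, hg]), map_add]
      map_smul' := fun c a => by
        rw [RingHom.id_apply, hkey (c • g a) _ (by rw [map_smul, hg]), map_smul] }
  refine ⟨Derivation.mk' l fun a b => ?_, fun x => hkey x _ rfl⟩
  show d (g (a * b)) = a • d (g b) + b • d (g a)
  rw [hkey (g a * g b) _ (by rw [map_mul, hg, hg]), hd, hg, hg]

end Groth.Agent.FontLift
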