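import Groth.Agent.FontLift.Taylor
import Groth.Agent.FontLift.Diff
import Groth.Agent.FontLift.Complete
import Groth.Agent.ArtKit.PSRing
import Groth.Agent.EGA418Base.Model

/-!
The presentation of a finite flat complete intersection with free module of differentials modulo `a`.
-/
set_option autoImplicit false
set_option linter.style.haveILetI false
set_option linter.unusedSectionVars false
universe u v

namespace Groth.Agent.FontLift
open MvPolynomial IsLocalRing

variable {O : Type u} [CommRing O] [IsLocalRing O] [IsNoetherianRing O] [IsAdicComplete (maximalIdeal O) O]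
variable {A : Type v} [CommRing A] [Algebra O A] [Module.Finite O A] [IsLocalRing A]

theorem isArtinianRing_quot_one : IsArtinianRing (A ⧸ mS O A) := by
  have h := isArtinianRing_quot O A 0
  rwa [zero_add, pow_one] at h

theorem exists_maximalIdeal_pow_le (hne : mS O A ≠ ⊤) : ∃ N, maximalIdeal A ^ N ≤ mS O A := by
  haveI := isArtinianRing_quot_one (O := O) (A := A)
  haveI : Nontrivial (A ⧸ mS O A) := Ideal.Quotient.nontrivial_iff.2 hne
  haveI : IsLocalRing (A ⧸ mS O A) := IsLocalRing.of_surjective' _ Ideal.Quotient.mk_surjective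
  obtain ⟨N, hN⟩ := (IsArtinianRing.isNilpotent_jacobson_bot (R := A ⧸ mS O A))
  rw [jacobson_eq_maximalIdeal _ bot_ne_top] at hN
  refine ⟨N, ?_⟩
  rw [← Ideal.mk_ker (I := mS O A), RingHom.ker_eq_comap_bot, ← Ideal.map_le_iff_le_comap, Ideal.map_pow,
    ← Ideal.zero_eq_bot, ← hN]
  refine Ideal.pow_right_mono (Ideal.map_le_iff_le_comap.2 fun x hx => ?_) N
  rw [Ideal.mem_comap, mem_maximalIdeal, mem_nonunits_iff]
  intro hu
  haveI : IsLocalHom (Ideal.Quotient.mk (mS O A)) := .of_surjective _ Ideal.Quotient.mk_surjective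
  exact hx (IsUnit.of_map (Ideal.Quotient.mk (mS O A)) x hu)

/-- Algebra maps sending the variables into the ideal of a separated ring are determined on them. -/
theorem algHom_ext_adic' {σ : Type} [Fintype σ] {R : Type u} [CommRing R] {B : Type v} [CommRing B]
    [Algebra R B] (I : Ideal B) [IsHausdorff I B] {φ ψ : MvPowerSeries σ R →ₐ[R] B}
    (hX : ∀ i, φ (MvPowerSeries.X i) = ψ (MvPowerSeries.X i)) (hφ : ∀ i, φ (MvPowerSeries.X i) ∈ I) : φ = ψ := by
  refine AlgHom.ext fun f => sub_eq_zero.mp (IsHausdorff.haus' (I := I) _ fun n => ?_)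
  rw [SModEq.sub_mem, sub_zero, smul_eq_mul, Ideal.mul_top, ← Ideal.Quotient.eq]
  have hN : (I.map (Ideal.Quotient.mk (I ^ n))) ^ n = ⊥ := by rw [← Ideal.map_pow, Ideal.map_quotient_self]
  exact DFunLike.congr_fun (Groth.Agent.ArtPow.algHom_ext (φ := (Ideal.Quotient.mkₐ R (I ^ n)).comp φ)
    (ψ := (Ideal.Quotient.mkₐ R (I ^ n)).comp ψ) hN (fun i => congrArg _ (hX i))
    fun i => Ideal.mem_map_of_mem _ (hφ i)) f

theorem exists_pres {m r : ℕ} (a : O) (hreg : ∀ x : A, algebraMap O A a * x = 0 → x = 0)
    (f : Fin m → MvPowerSeries (Fin m) O) (q : MvPowerSeries (Fin m) O →ₐ[O] A) (hq : Function.Surjective q)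
    (hker : ∀ x, q x = 0 → x ∈ Ideal.span (Set.range f)) (hqf : ∀ i, q (f i) = 0)
    (hX : ∀ k, q (MvPowerSeries.X k) ∈ maximalIdeal A) (hne : mS O A ≠ ⊤)
    (y : Fin r → A) (hy : ∀ j, y j ∈ maximalIdeal A)
    (hsurj : Function.Surjective (aeval (R := O) y))
    (hkill : ∀ ω : KaehlerDifferential O A, algebraMap O A a • ω = 0)
    (hbasis : ∀ v : Fin r → A, ∑ j, v j • KaehlerDifferential.D O A (y j) = 0 →
      ∀ j, algebraMap O A a ∣ v j) :
    ∃ P : Pres O r a, P.K = RingHom.ker (aeval (R := O) y) := by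
  classical
  set π := aeval (R := O) y with hπ
  set K : Ideal (MvPolynomial (Fin r) O) := RingHom.ker π with hK
  have hderiv : ∀ g ∈ K, ∀ j, pderiv j g ∈ Ideal.span {C a} ⊔ K := by
    intro g hg j
    have h := deriv_aeval (KaehlerDifferential.D O A) y g
    rw [RingHom.mem_ker.1 hg, map_zero] at h
    obtain ⟨w, hw⟩ := hbasis _ h.symm j
    obtain ⟨w', rfl⟩ := hsurj w
    refine Submodule.mem_sup.2 ⟨C a * w', Ideal.mul_mem_right _ _ (Ideal.subset_span rfl),
      pderiv j g - C a * w', ?_, add_sub_cancel _ _⟩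
    rw [hK, RingHom.mem_ker, map_sub, map_mul, hπ, aeval_C, hw, sub_self]
  have hgen : ∀ i, ∃ g ∈ K, ∀ j, pderiv j g - (if i = j then C a else 0) ∈ K := by
    intro i
    let dl : MvPolynomial (Fin r) O →ₗ[O] (Fin r → A) :=
      LinearMap.pi fun j => π.toLinearMap ∘ₗ ((pderiv j : Derivation O _ _) : MvPolynomial (Fin r) O →ₗ[O] _)
    have hdl : ∀ g j, dl g j = π (pderiv j g) := fun g j => rfl
    let N : Submodule A (Fin r → A) :=
      { carrier := {v | ∃ g ∈ K, dl g = v}
        zero_mem' := ⟨0, zero_mem _, map_zero _⟩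
        add_mem' := by
          rintro _ _ ⟨g, hg, rfl⟩ ⟨g', hg', rfl⟩
          exact ⟨g + g', add_mem hg hg', map_add _ _ _⟩
        smul_mem' := by
          rintro c _ ⟨g, hg, rfl⟩
          obtain ⟨c', rfl⟩ := hsurj c
          refine ⟨c' * g, Ideal.mul_mem_left _ _ hg, funext fun j => ?_⟩
          rw [hdl, Pi.smul_apply, hdl, smul_eq_mul, pderiv_mul, map_add, map_mul, map_mul,
            RingHom.mem_ker.1 hg, mul_zero, zero_add] }
    have hd : ∀ g g', (N.mkQ.restrictScalars O ∘ₗ dl) (g * g') =
        π g • (N.mkQ.restrictScalars O ∘ₗ dl) g' + π g' • (N.mkQ.restrictScalars O ∘ₗ dl) g := by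
      intro g g'
      simp only [LinearMap.comp_apply, LinearMap.restrictScalars_apply]
      rw [← N.mkQ.map_smul, ← N.mkQ.map_smul, ← map_add]
      congr 1
      ext j
      simp only [hdl, Pi.add_apply, Pi.smul_apply, smul_eq_mul, pderiv_mul, map_add, map_mul]
      ring
    obtain ⟨δ, hδ⟩ := exists_desc π hsurj (N.mkQ.restrictScalars O ∘ₗ dl) hd fun k hk => by
      rw [LinearMap.comp_apply, LinearMap.restrictScalars_apply, Submodule.mkQ_apply,
        Submodule.Quotient.mk_eq_zero]
      exact ⟨k, hk, rfl⟩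
    have h1 : δ.liftKaehlerDifferential (KaehlerDifferential.D O A (y i)) = N.mkQ (Pi.single i 1) := by
      rw [Derivation.liftKaehlerDifferential_comp_D, show y i = π (X i) from (aeval_X _ _).symm, hδ]
      simp only [LinearMap.comp_apply, LinearMap.restrictScalars_apply]
      congr 1
      ext j
      rw [hdl, pderiv_X]
      rcases eq_or_ne j i with rfl | h
      · simp
      · simp [h]
    have h2 : algebraMap O A a • (Pi.single i 1 : Fin r → A) ∈ N := by
      rw [← Submodule.Quotient.mk_eq_zero, ← Submodule.mkQ_apply, map_smul, ← h1, ← map_smul, hkill, map_zero]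
    obtain ⟨g, hg, hgv⟩ := h2
    refine ⟨g, hg, fun j => ?_⟩
    have := congrFun hgv j
    rw [hdl] at this
    rw [hK, RingHom.mem_ker, map_sub, this]
    rcases eq_or_ne i j with rfl | h
    · simp [hπ]
    · simp [h, h.symm]
  have hsq : ∀ g ∈ K, (∀ j, pderiv j g ∈ K) → g ∈ K ^ 2 := by
    intro g hg hdg
    let B := MvPolynomial (Fin r) O ⧸ K ^ 2
    let mkB : MvPolynomial (Fin r) O →ₐ[O] B := Ideal.Quotient.mkₐ O (K ^ 2)
    let πB : B →ₐ[O] A := Ideal.Quotient.liftₐ (K ^ 2) π fun x hx =>
      RingHom.mem_ker.1 (Ideal.pow_le_self two_ne_zero hx)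
    have hπB : ∀ x, πB (mkB x) = π x := fun x => rfl
    set Kb : Ideal B := RingHom.ker πB with hKb
    have hKb2 : Kb ^ 2 = ⊥ := by
      have : Kb ≤ K.map mkB := fun x hx => by
        obtain ⟨x, rfl⟩ := Ideal.Quotient.mk_surjective x
        exact Ideal.mem_map_of_mem _ (show π x = 0 from hx)
      refine le_bot_iff.1 ((Ideal.pow_right_mono this 2).trans ?_)
      rw [← Ideal.map_pow]
      exact le_of_eq (Ideal.map_quotient_self _)
    haveI : Module.Finite O B := by
      haveI : Algebra.IsIntegral O B := ⟨fun b => by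
        obtain ⟨p, hp, hp0⟩ := Algebra.IsIntegral.isIntegral (R := O) (πB b)
        have h0 : Polynomial.aeval b p ∈ Kb := by
          rw [hKb, RingHom.mem_ker, ← Polynomial.aeval_algHom_apply]
          exact hp0
        refine ⟨p ^ 2, hp.pow 2, ?_⟩
        show Polynomial.aeval b (p ^ 2) = 0
        rw [map_pow, ← Ideal.mem_bot, ← hKb2]
        exact Ideal.pow_mem_pow h0 2⟩
      haveI : Algebra.FiniteType O B := Algebra.FiniteType.of_surjective mkB Ideal.Quotient.mk_surjective
      exact Algebra.IsIntegral.finite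
    let IB : Ideal B := (maximalIdeal A).comap πB
    have hπBs : Function.Surjective πB := fun x => by
      obtain ⟨p, hp⟩ := hsurj x
      exact ⟨mkB p, hp⟩
    haveI : IsAdicComplete IB B := by
      obtain ⟨N, hN⟩ := exists_maximalIdeal_pow_le (O := O) hne
      haveI := isAdicComplete_mS O B
      have hmap : (mS O B).map πB.toRingHom = mS O A := by
        rw [Ideal.map_map]; congr 1; exact RingHom.ext fun c => πB.commutes c
      refine Groth.Agent.EGA418Base.isAdicComplete_of_pow_le (I := mS O B) (c := (N + 1) * 2) (by omega) ?_ ?_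
      · rw [pow_mul]
        have h1 : IB ^ (N + 1) ≤ mS O B ⊔ Kb := fun x hx => by
          have h2 : πB x ∈ mS O A := hN (Ideal.pow_le_pow_right (Nat.le_succ N)
            ((Ideal.le_comap_pow πB.toRingHom (N + 1)) hx))
          rw [← hmap] at h2
          obtain ⟨z, hz, e⟩ := (Ideal.mem_map_iff_of_surjective πB.toRingHom hπBs).1 h2
          refine Submodule.mem_sup.2 ⟨z, hz, x - z, ?_, add_sub_cancel _ _⟩
          rw [hKb, RingHom.mem_ker, map_sub, sub_eq_zero]
          exact e.symm
        refine (Ideal.pow_right_mono h1 2).trans ?_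
        rw [pow_two (mS O B ⊔ Kb), Ideal.sup_mul, Ideal.mul_sup, Ideal.mul_sup]
        refine sup_le (sup_le Ideal.mul_le_left Ideal.mul_le_left) (sup_le Ideal.mul_le_right ?_)
        rw [← pow_two Kb, hKb2]
        exact bot_le
      · rw [← Ideal.map_le_iff_le_comap]
        exact (le_of_eq hmap).trans (le_maximalIdeal hne)
    choose Φ hΦ using fun k => hsurj (q (MvPowerSeries.X k))
    obtain ⟨ρ, hρ⟩ := Groth.Agent.ArtKit.exists_evalAdic (R := O) IB (fun k => mkB (Φ k)) fun k => by
      rw [Ideal.mem_comap, hπB, hΦ]; exact hX k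
    haveI : IsHausdorff (maximalIdeal A) A := by
      haveI : IsNoetherianRing A := IsNoetherianRing.of_finite O A
      exact IsHausdorff.of_isLocalRing (maximalIdeal A) A (IsLocalRing.maximalIdeal.isMaximal A).ne_top
    have hcomp : ∀ x, πB (ρ x) = q x := DFunLike.congr_fun
      (algHom_ext_adic' (maximalIdeal A) (φ := πB.comp ρ) (ψ := q)
        (fun k => by rw [AlgHom.comp_apply, hρ, hπB, hΦ])
        (fun k => by rw [AlgHom.comp_apply, hρ, hπB, hΦ]; exact hX k))
    choose Y hY using fun j => hq (y j)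
    let ι : MvPolynomial (Fin r) O →ₐ[O] MvPowerSeries (Fin m) O := aeval Y
    have hι : ∀ p, q (ι p) = π p := DFunLike.congr_fun
      (MvPolynomial.algHom_ext (f := q.comp ι) fun j => by simp [ι, hπ, hY])
    -- back and forth
    have hback : ρ (ι g) = mkB g := by
      have h1 : ρ.comp ι = aeval fun j => ρ (Y j) := MvPolynomial.algHom_ext fun j => by simp [ι]
      rw [← AlgHom.comp_apply, h1, aeval_first_order Kb hKb2 (fun j => mkB (X j)) (fun j => ρ (Y j))
        fun j => by rw [hKb, RingHom.mem_ker, map_sub, hcomp, hY, hπB, hπ, aeval_X, sub_self]]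
      have h2 : (aeval fun j => mkB (X j)) = mkB := MvPolynomial.algHom_ext fun j => by simp
      rw [h2, add_eq_left]
      refine Finset.sum_eq_zero fun j _ => ?_
      rw [← Ideal.mem_bot, ← hKb2, pow_two Kb]
      refine Ideal.mul_mem_mul ?_ ?_
      · rw [hKb, RingHom.mem_ker, hπB]; exact hdg j
      · rw [hKb, RingHom.mem_ker, map_sub, hcomp, hY, hπB, hπ, aeval_X, sub_self]
    -- the Jacobian
    let dq : MvPowerSeries (Fin m) O →ₗ[O] (Fin m → A) := LinearMap.pi fun k =>
      q.toLinearMap ∘ₗ ((MvPowerSeries.pderiv O k : Derivation O _ _) : MvPowerSeries (Fin m) O →ₗ[O] _)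
    have hdq : ∀ x k, dq x k = q (MvPowerSeries.pderiv O k x) := fun x k => rfl
    have hdqmul : ∀ x z, dq (x * z) = q x • dq z + q z • dq x := fun x z => funext fun k => by
      simp only [hdq, Pi.add_apply, Pi.smul_apply, smul_eq_mul, Derivation.leibniz, map_add, map_mul]
    let Jac : Matrix (Fin m) (Fin m) A := Matrix.of fun i k => dq (f i) k
    have hdqker : ∀ (b : Fin m → MvPowerSeries (Fin m) O), dq (∑ i, b i * f i) = ∑ i, q (b i) • dq (f i) := by
      intro b
      rw [map_sum]
      exact Finset.sum_congr rfl fun i _ => by rw [hdqmul, hqf, zero_smul, add_zero]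
    let R : Submodule A (Fin m → A) := Submodule.span A (Set.range fun i => dq (f i))
    obtain ⟨δ, hδ⟩ := exists_desc q hq (R.mkQ.restrictScalars O ∘ₗ dq) (fun x z => by
        simp only [LinearMap.comp_apply, LinearMap.restrictScalars_apply]
        rw [hdqmul, map_add, map_smul, map_smul]) fun x hx => by
      obtain ⟨b, rfl⟩ := Ideal.mem_span_range_iff_exists_fun.1 (hker x hx)
      rw [LinearMap.comp_apply, LinearMap.restrictScalars_apply, Submodule.mkQ_apply,
        Submodule.Quotient.mk_eq_zero, hdqker]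
      exact sum_mem fun i _ => R.smul_mem _ (Submodule.subset_span ⟨i, rfl⟩)
    have hM : ∀ k, ∃ c : Fin m → A, ∑ i, c i • dq (f i) = algebraMap O A a • (Pi.single k 1 : Fin m → A) := by
      intro k
      rw [← Submodule.mem_span_range_iff_exists_fun, ← Submodule.Quotient.mk_eq_zero, ← Submodule.mkQ_apply,
        map_smul]
      have h1 : δ.liftKaehlerDifferential (KaehlerDifferential.D O A (q (MvPowerSeries.X k))) =
          R.mkQ (Pi.single k 1) := by
        rw [Derivation.liftKaehlerDifferential_comp_D, hδ]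
        simp only [LinearMap.comp_apply, LinearMap.restrictScalars_apply]
        congr 1
        ext l
        rw [hdq, MvPowerSeries.pderiv_X]
        rcases eq_or_ne l k with rfl | h
        · simp
        · simp [h]
      rw [← h1, ← map_smul, hkill, map_zero]
    choose M hM using hM
    have hMJ : Matrix.of M * Jac = algebraMap O A a • (1 : Matrix (Fin m) (Fin m) A) := by
      ext k l
      rw [Matrix.mul_apply, Matrix.smul_apply, Matrix.one_apply]
      have := congrFun (hM k) l
      simp only [Finset.sum_apply, Pi.smul_apply, smul_eq_mul, Pi.single_apply] at this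
      simp only [Matrix.of_apply, smul_eq_mul, Jac, this]
      congr 1
      exact if_congr eq_comm rfl rfl
    have hdqι : dq (ι g) = 0 := by
      funext k
      let D' : Derivation O (MvPowerSeries (Fin m) O) (MvPowerSeries (Fin m) O) := MvPowerSeries.pderiv O k
      rw [hdq, show MvPowerSeries.pderiv O k (ι g) = D' (aeval Y g) from rfl, deriv_aeval D' Y g, map_sum,
        Pi.zero_apply]
      refine Finset.sum_eq_zero fun j _ => ?_
      rw [smul_eq_mul, map_mul, show aeval Y (pderiv j g) = ι (pderiv j g) from rfl, hι,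
        RingHom.mem_ker.1 (hdg j), zero_mul]
    have hιg : ι g ∈ Ideal.span (Set.range f) := hker _ (by rw [hι]; exact RingHom.mem_ker.1 hg)
    obtain ⟨b, hb⟩ := Ideal.mem_span_range_iff_exists_fun.1 hιg
    have hb0 : ∀ i, q (b i) = 0 := by
      have h1 : Matrix.vecMul (fun i => q (b i)) Jac = 0 := by
        rw [← hdqι, ← hb, hdqker]
        ext l
        simp [Matrix.vecMul, dotProduct, Jac, Finset.sum_apply]
      have h2 : (Jac.det) • (fun i => q (b i)) = 0 := by
        have := congrArg (fun v => Matrix.vecMul v Jac.adjugate) h1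
        simpa [Matrix.vecMul_vecMul, Matrix.mul_adjugate, Matrix.vecMul_smul] using this
      intro i
      have h3 : algebraMap O A a ^ m * q (b i) = 0 := by
        have h4 : (Matrix.of M).det * Jac.det = algebraMap O A a ^ m := by
          rw [← Matrix.det_mul, hMJ, Matrix.det_smul, Matrix.det_one, mul_one, Fintype.card_fin]
        rw [← h4, mul_assoc, show Jac.det * q (b i) = 0 from congrFun h2 i, mul_zero]
      have aux : ∀ (n : ℕ) (x : A), algebraMap O A a ^ n * x = 0 → x = 0 := fun n => by
        induction n with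
        | zero => intro x hx; simpa using hx
        | succ n ih => intro x hx; rw [pow_succ, mul_assoc] at hx; exact hreg x (ih _ hx)
      exact aux m _ h3
    have hzero : mkB g = 0 := by
      rw [← hback, ← hb, map_sum, ← Ideal.mem_bot, ← hKb2]
      refine sum_mem fun i _ => ?_
      rw [map_mul, pow_two Kb]
      refine Ideal.mul_mem_mul ?_ ?_
      · rw [hKb, RingHom.mem_ker, hcomp, hb0]
      · rw [hKb, RingHom.mem_ker, hcomp, hqf]
    exact Ideal.Quotient.eq_zero_iff_mem.1 hzero
  choose G hG hG' using hgen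
  exact ⟨⟨K, hderiv, G, hG, hG', hsq⟩, rfl⟩

end Groth.Agent.FontLift
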