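import Groth.Agent.FontLift.FromPS

/-!
Generators of a finite local algebra whose differentials form a basis modulo `a`.
-/
set_option autoImplicit false
set_option linter.style.haveILetI false
set_option linter.unusedSectionVars false
universe u v

namespace Groth.Agent.FontLift
open MvPolynomial IsLocalRing

variable {O : Type u} [CommRing O] [IsLocalRing O] [IsNoetherianRing O] [IsAdicComplete (maximalIdeal O) O]
variable {A : Type v} [CommRing A] [Algebra O A] [Module.Finite O A] [IsLocalRing A]

theorem exists_gens (a : O) (r : ℕ) (e : KaehlerDifferential O A ≃ₗ[A] (Fin r → A ⧸ Ideal.span {algebraMap O A a}))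
    (hne : mS O A ≠ ⊤) (hres : ∀ x : A, ∃ c : O, x - algebraMap O A c ∈ maximalIdeal A) :
    ∃ y : Fin r → A, (∀ j, y j ∈ maximalIdeal A) ∧ Function.Surjective (aeval (R := O) y) ∧
      (∀ ω : KaehlerDifferential O A, algebraMap O A a • ω = 0) ∧
      (∀ v : Fin r → A, ∑ j, v j • KaehlerDifferential.D O A (y j) = 0 →
        ∀ j, algebraMap O A a ∣ v j) := by
  classical
  haveI : IsNoetherianRing A := IsNoetherianRing.of_finite O A
  let M := KaehlerDifferential O A
  let D := KaehlerDifferential.D O A
  haveI : Module.Finite A M := Module.Finite.equiv e.symm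
  have hkill : ∀ ω : M, algebraMap O A a • ω = 0 := fun ω => e.injective (by
    rw [map_smul, map_zero]
    funext j
    obtain ⟨z, hz⟩ := Ideal.Quotient.mk_surjective (e ω j)
    rw [Pi.smul_apply, ← hz, Algebra.smul_def, Ideal.Quotient.algebraMap_eq, ← map_mul, Pi.zero_apply,
      Ideal.Quotient.eq_zero_iff_mem]
    exact Ideal.mul_mem_right _ _ (Ideal.subset_span rfl))
  -- every differential is exact modulo the maximal ideal
  have happrox : ∀ ω : M, ∃ z : A, z ∈ maximalIdeal A ∧ ω - D z ∈ maximalIdeal A • (⊤ : Submodule A M) := by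
    have hD : ∀ x : A, ∃ z ∈ maximalIdeal A, D z = D x := fun x => by
      obtain ⟨c, hc⟩ := hres x
      exact ⟨_, hc, by rw [map_sub, Derivation.map_algebraMap, sub_zero]⟩
    intro ω
    have hω : ω ∈ Submodule.span A (Set.range D) := by
      rw [KaehlerDifferential.span_range_derivation]; trivial
    induction hω using Submodule.span_induction with
    | mem x hx =>
      obtain ⟨x, rfl⟩ := hx
      obtain ⟨z, hz, e⟩ := hD x
      exact ⟨z, hz, by rw [e, sub_self]; exact zero_mem _⟩
    | zero => exact ⟨0, zero_mem _, by rw [map_zero, sub_zero]; exact zero_mem _⟩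
    | add p q _ _ ihp ihq =>
      obtain ⟨z, hz, h⟩ := ihp
      obtain ⟨z', hz', h'⟩ := ihq
      exact ⟨z + z', add_mem hz hz', by rw [map_add, add_sub_add_comm]; exact add_mem h h'⟩
    | smul c p _ ih =>
      obtain ⟨z, hz, h⟩ := ih
      obtain ⟨c₀, hc₀⟩ := hres c
      refine ⟨c₀ • z, by rw [Algebra.smul_def]; exact Ideal.mul_mem_left _ _ hz, ?_⟩
      have : c • p - D (c₀ • z) = (c - algebraMap O A c₀) • p + algebraMap O A c₀ • (p - D z) := by
        rw [sub_smul, smul_sub, Derivation.map_smul, algebraMap_smul, algebraMap_smul]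
        abel
      rw [this]
      exact add_mem (Submodule.smul_mem_smul hc₀ trivial) (Submodule.smul_mem _ _ h)
  let b : Fin r → M := fun j => e.symm (Pi.single j 1)
  choose y hy hyb using fun j => happrox (b j)
  have hspanb : Submodule.span A (Set.range b) = ⊤ := by
    rw [eq_top_iff]
    intro ω _
    rw [Submodule.mem_span_range_iff_exists_fun]
    choose c hc using fun j => Ideal.Quotient.mk_surjective (e ω j)
    refine ⟨c, e.injective (funext fun l => ?_)⟩
    simp [b, Pi.single_apply, Algebra.smul_def, hc]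
  have hspan : Submodule.span A (Set.range fun j => D (y j)) = ⊤ := by
    refine top_le_iff.1 (Submodule.le_of_le_smul_of_le_jacobson_bot Module.Finite.fg_top
      (maximalIdeal_le_jacobson ⊥) ?_)
    rw [← hspanb, Submodule.span_le]
    rintro _ ⟨j, rfl⟩
    refine Submodule.mem_sup.2 ⟨D (y j), Submodule.subset_span ⟨j, rfl⟩, b j - D (y j), ?_, add_sub_cancel _ _⟩
    rw [hspanb]
    exact hyb j
  refine ⟨y, hy, ?_, hkill, ?_⟩
  · -- generation
    set J : Ideal A := mS O A ⊔ Ideal.span (Set.range y) with hJ
    have hJm : J ≤ maximalIdeal A :=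
      sup_le (le_maximalIdeal hne) (Ideal.span_le.2 fun _ ⟨j, hj⟩ => hj ▸ hy j)
    have hmJ : maximalIdeal A ≤ J := by
      haveI : Nontrivial (A ⧸ J) :=
        Ideal.Quotient.nontrivial_iff.2 (ne_top_of_le_ne_top (IsLocalRing.maximalIdeal.isMaximal A).ne_top hJm)
      haveI : IsLocalRing (A ⧸ J) := IsLocalRing.of_surjective' _ Ideal.Quotient.mk_surjective
      haveI : Subsingleton (KaehlerDifferential O (A ⧸ J)) := by
        have hsub : ∀ ω : M, KaehlerDifferential.map O O A (A ⧸ J) ω = 0 := by
          intro ω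
          have hω : ω ∈ Submodule.span A (Set.range fun j => D (y j)) := by rw [hspan]; trivial
          induction hω using Submodule.span_induction with
          | mem x hx =>
            obtain ⟨j, rfl⟩ := hx
            rw [KaehlerDifferential.map_D, Ideal.Quotient.algebraMap_eq, Ideal.Quotient.eq_zero_iff_mem.2
              (show y j ∈ J from Ideal.mem_sup_right (Ideal.subset_span ⟨j, rfl⟩)), map_zero]
          | zero => exact map_zero _
          | add p q _ _ hp hq => rw [map_add, hp, hq, add_zero]
          | smul c p _ hp => rw [map_smul, hp, smul_zero]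
        refine subsingleton_of_forall_eq 0 fun z => ?_
        obtain ⟨ω, rfl⟩ := KaehlerDifferential.map_surjective_of_surjective O O A (A ⧸ J)
          Ideal.Quotient.mk_surjective z
        exact hsub ω
      haveI : Algebra.FormallyUnramified O (A ⧸ J) := ⟨inferInstance⟩
      letI : Algebra (ResidueField O) (A ⧸ J) := (Ideal.quotientMap J (algebraMap O A)
        (Ideal.map_le_iff_le_comap.1 le_sup_left)).toAlgebra
      haveI : IsScalarTower O (ResidueField O) (A ⧸ J) := IsScalarTower.of_algebraMap_eq fun _ => rfl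
      haveI : Algebra.FormallyUnramified (ResidueField O) (A ⧸ J) :=
        Algebra.FormallyUnramified.of_restrictScalars O _ _
      haveI : Module.Finite (ResidueField O) (A ⧸ J) := Module.Finite.of_restrictScalars_finite O _ _
      haveI : IsReduced (A ⧸ J) := Algebra.FormallyUnramified.isReduced_of_field (ResidueField O) _
      haveI : IsArtinianRing (A ⧸ J) := IsArtinianRing.of_finite (ResidueField O) _
      intro x hx
      rw [← Ideal.Quotient.eq_zero_iff_mem]
      haveI : IsLocalHom (Ideal.Quotient.mk J) := .of_surjective _ Ideal.Quotient.mk_surjective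
      obtain ⟨n, hn⟩ := IsArtinianRing.isNilpotent_jacobson_bot (R := A ⧸ J)
      have h1 : Ideal.Quotient.mk J x ∈ Ideal.jacobson (⊥ : Ideal (A ⧸ J)) := by
        rw [jacobson_eq_maximalIdeal _ bot_ne_top, mem_maximalIdeal, mem_nonunits_iff]
        exact fun hu => hx (IsUnit.of_map (Ideal.Quotient.mk J) x hu)
      exact IsReduced.eq_zero _ ⟨n, by simpa [hn] using Ideal.pow_mem_pow h1 n⟩
    obtain ⟨N, hN⟩ := exists_maximalIdeal_pow_le (O := O) (A := A) hne
    let T : Subalgebra O A := (aeval (R := O) y).range
    let J₀ : Ideal A := Ideal.span (Set.range y)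
    have hT : ∀ x : A, ∃ t ∈ T, x - t ∈ J₀ ⊔ mS O A := fun x => by
      obtain ⟨c, hc⟩ := hres x
      exact ⟨algebraMap O A c, T.algebraMap_mem c, by
        rw [sup_comm]; exact hmJ hc⟩
    have hlin : ∀ u ∈ J₀, ∃ t ∈ T, t ∈ J₀ ∧ u - t ∈ J₀ ^ 2 ⊔ mS O A := by
      intro u hu
      obtain ⟨c, rfl⟩ := Ideal.mem_span_range_iff_exists_fun.1 hu
      choose t ht htc using fun j => hT (c j)
      refine ⟨∑ j, t j * y j, sum_mem fun j _ => T.mul_mem (ht j) ⟨X j, by simp⟩,
        sum_mem fun j _ => Ideal.mul_mem_left _ _ (Ideal.subset_span ⟨j, rfl⟩), ?_⟩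
      rw [← Finset.sum_sub_distrib]
      refine sum_mem fun j _ => ?_
      rw [← sub_mul]
      have hyj : y j ∈ J₀ := Ideal.subset_span ⟨j, rfl⟩
      have h := Ideal.mul_mem_mul (htc j) hyj
      rw [Ideal.sup_mul, ← pow_two] at h
      exact (sup_le le_sup_left (Ideal.mul_le_left.trans le_sup_right) : _ ≤ _ ⊔ mS O A) h
    have hstep : ∀ n, ∀ u ∈ J₀ ^ n, ∃ t ∈ T, t ∈ J₀ ^ n ∧ u - t ∈ J₀ ^ (n + 1) ⊔ mS O A := by
      intro n
      induction n with
      | zero =>
        intro u _
        obtain ⟨t, ht, h⟩ := hT u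
        exact ⟨t, ht, by simp, by rwa [zero_add, pow_one]⟩
      | succ n ih =>
        intro u hu
        rw [pow_succ] at hu
        induction hu using Submodule.mul_induction_on' with
        | mem_mul_mem p hp z hz =>
          obtain ⟨t, ht, htn, h1⟩ := ih p hp
          obtain ⟨t', ht', ht'1, h2⟩ := hlin z hz
          refine ⟨t * t', T.mul_mem ht ht', by rw [pow_succ]; exact Ideal.mul_mem_mul htn ht'1, ?_⟩
          have e : p * z - t * t' = (p - t) * z + t * (z - t') := by ring
          rw [e]
          refine add_mem ?_ ?_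
          · have h := Ideal.mul_mem_mul h1 hz
            rw [Ideal.sup_mul, ← pow_succ] at h
            exact (sup_le le_sup_left (Ideal.mul_le_left.trans le_sup_right) : _ ≤ _ ⊔ mS O A) h
          · have h := Ideal.mul_mem_mul htn h2
            rw [Ideal.mul_sup, ← pow_add] at h
            exact (sup_le le_sup_left (Ideal.mul_le_right.trans le_sup_right) : _ ≤ _ ⊔ mS O A) h
        | add p _ z _ ihp ihz =>
          obtain ⟨t, ht, htn, h⟩ := ihp
          obtain ⟨t', ht', htn', h'⟩ := ihz
          exact ⟨t + t', T.add_mem ht ht', add_mem htn htn', by rw [add_sub_add_comm]; exact add_mem h h'⟩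
    have hall : ∀ n, ∀ x : A, ∃ t ∈ T, x - t ∈ J₀ ^ n ⊔ mS O A := by
      intro n
      induction n with
      | zero => intro x; exact ⟨0, T.zero_mem, by simp⟩
      | succ n ih =>
        intro x
        obtain ⟨t, ht, h⟩ := ih x
        obtain ⟨u, hu, w, hw, e⟩ := Submodule.mem_sup.1 h
        obtain ⟨t', ht', -, h'⟩ := hstep n u hu
        refine ⟨t + t', T.add_mem ht ht', ?_⟩
        rw [← sub_sub, ← e, add_sub_right_comm]
        exact add_mem h' (Ideal.mem_sup_right hw)
    have hfin : (⊤ : Submodule O A) ≤ Subalgebra.toSubmodule T := by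
      refine Submodule.le_of_le_smul_of_le_jacobson_bot Module.Finite.fg_top (maximalIdeal_le_jacobson ⊥) ?_
      intro x _
      obtain ⟨t, ht, h⟩ := hall N x
      refine Submodule.mem_sup.2 ⟨t, ht, x - t, ?_, add_sub_cancel _ _⟩
      have h1 : J₀ ^ N ⊔ mS O A ≤ mS O A := sup_le
        ((Ideal.pow_right_mono (le_sup_right.trans hJm) N).trans hN) le_rfl
      rw [Ideal.smul_top_eq_map]
      exact h1 h
    exact fun x => hfin (Submodule.mem_top : x ∈ (⊤ : Submodule O A))
  · -- basis
    intro v hv
    let Q := A ⧸ Ideal.span {algebraMap O A a}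
    let φ : (Fin r → Q) →ₗ[Q] (Fin r → Q) := Fintype.linearCombination Q fun j => e (D (y j))
    have hφ : ∀ w : Fin r → A, φ (fun j => Ideal.Quotient.mk _ (w j)) = e (∑ j, w j • D (y j)) := by
      intro w
      simp only [φ, Fintype.linearCombination_apply, map_sum, map_smul]
      refine Finset.sum_congr rfl fun j _ => ?_
      funext l
      simp [Algebra.smul_def]
    have hsurj : Function.Surjective φ := by
      intro w
      have hω : e.symm w ∈ Submodule.span A (Set.range fun j => D (y j)) := by rw [hspan]; trivial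
      obtain ⟨c, hc⟩ := (Submodule.mem_span_range_iff_exists_fun A).1 hω
      exact ⟨fun j => Ideal.Quotient.mk _ (c j), by rw [hφ, hc, LinearEquiv.apply_symm_apply]⟩
    have hinj := OrzechProperty.injective_of_surjective_endomorphism φ hsurj
    have h0 : (fun j => Ideal.Quotient.mk (Ideal.span {algebraMap O A a}) (v j)) = (0 : Fin r → Q) :=
      hinj (by rw [hφ, hv, map_zero, map_zero])
    exact fun j => Ideal.mem_span_singleton.1 (Ideal.Quotient.eq_zero_iff_mem.1 (congrFun h0 j))

end Groth.Agent.FontLift
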