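import Groth.Agent.FontLift.DP

/-!
Taylor's formula with divided powers, and Newton's method along a divided power filtration.
-/
set_option autoImplicit false
universe u w

namespace Groth.Agent.FontLift
open W4c1noabschz1 MvPolynomial

variable {O : Type u} [CommRing O] {S : Type w} [CommRing S] [Algebra O S] {r : ℕ}
variable {I : Ideal S} (hI : DividedPowers I)

theorem dpow_desc {δ : S} (hδ : δ ∈ I) (d k : ℕ) :
    δ ^ k * (d.choose k : S) = (d.descFactorial k : S) * hI.dpow k δ := by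
  rw [← hI.factorial_mul_dpow_eq_pow hδ, Nat.descFactorial_eq_factorial_mul_choose, Nat.cast_mul]
  ring

theorem iterate_pderiv_monomial (j : Fin r) (d : Fin r →₀ ℕ) (c : O) : ∀ k : ℕ,
    (pderiv j)^[k] (monomial d c) = monomial (d - Finsupp.single j k) (c * (d j).descFactorial k)
  | 0 => by simp
  | k + 1 => by
    rw [Function.iterate_succ_apply', iterate_pderiv_monomial j d c k, pderiv_monomial, tsub_tsub,
      ← Finsupp.single_add, Finsupp.tsub_apply, Finsupp.single_eq_same, mul_assoc, ← Nat.cast_mul,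
      Nat.descFactorial_succ, mul_comm ((d j).descFactorial k)]

/-- One variable Taylor formula. -/
theorem exists_taylor {δ : S} (hδ : δ ∈ I) (j : Fin r) (s : Fin r → S) (Φ : MvPolynomial (Fin r) O) :
    ∃ N₀, ∀ N, N₀ ≤ N → aeval (Function.update s j (s j + δ)) Φ =
      ∑ k ∈ Finset.range N, hI.dpow k δ * aeval s ((pderiv j)^[k] Φ) := by
  induction Φ using MvPolynomial.induction_on' with
  | monomial d c =>
    refine ⟨d j + 1, fun N hN => ?_⟩
    have key : ∀ e : Fin r →₀ ℕ, ∀ t : Fin r → S, (∀ i, i ≠ j → e i = d i ∧ t i = s i) →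
        ∀ a : O, aeval t (monomial e a) =
          algebraMap O S a * (t j ^ e j * ∏ i ∈ Finset.univ.erase j, s i ^ d i) := by
      intro e t h a
      rw [aeval_monomial, Finsupp.prod_fintype _ _ (fun i => pow_zero _),
        ← Finset.mul_prod_erase _ _ (Finset.mem_univ j)]
      congr 2
      exact Finset.prod_congr rfl fun i hi => by
        obtain ⟨h1, h2⟩ := h i (Finset.ne_of_mem_erase hi)
        rw [h1, h2]
    rw [key d _ (fun i hi => ⟨rfl, Function.update_of_ne hi _ _⟩), Function.update_self]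
    have hterm : ∀ k, hI.dpow k δ * aeval s ((pderiv j)^[k] (monomial d c)) = algebraMap O S c *
        (δ ^ k * s j ^ (d j - k) * ((d j).choose k : S) * ∏ i ∈ Finset.univ.erase j, s i ^ d i) := by
      intro k
      rw [iterate_pderiv_monomial, key _ _ (fun i hi => ⟨by simp [hi.symm], rfl⟩), map_mul, map_natCast]
      simp only [Finsupp.tsub_apply, Finsupp.single_eq_same]
      have := dpow_desc hI hδ (d j) k
      linear_combination (-(algebraMap O S c * (s j ^ (d j - k)) * ∏ i ∈ Finset.univ.erase j, s i ^ d i)) * this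
    rw [Finset.sum_congr rfl fun k _ => hterm k, ← Finset.mul_sum, ← Finset.sum_mul,
      ← Finset.sum_subset (s₁ := Finset.range (d j + 1)) (Finset.range_mono hN), add_comm (s j), add_pow]
    intro k _ hk
    rw [Finset.mem_range, not_lt] at hk
    rw [Nat.choose_eq_zero_of_lt hk, Nat.cast_zero, mul_zero]
  | add p q hp hq =>
    obtain ⟨N₁, h₁⟩ := hp
    obtain ⟨N₂, h₂⟩ := hq
    refine ⟨max N₁ N₂, fun N hN => ?_⟩
    rw [map_add, h₁ N (le_trans (le_max_left _ _) hN), h₂ N (le_trans (le_max_right _ _) hN),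
      ← Finset.sum_add_distrib]
    refine Finset.sum_congr rfl fun k _ => ?_
    rw [iterate_map_add (pderiv j) k p q, map_add, mul_add]

/-- The data of a presentation whose conormal map is `a` times an isomorphism. -/
structure Pres (O : Type u) [CommRing O] (r : ℕ) (a : O) where
  K : Ideal (MvPolynomial (Fin r) O)
  deriv_mem : ∀ g ∈ K, ∀ j, pderiv j g ∈ Ideal.span {C a} ⊔ K
  gen : Fin r → MvPolynomial (Fin r) O
  gen_mem : ∀ i, gen i ∈ K
  deriv_gen : ∀ i j, pderiv j (gen i) - (if i = j then C a else 0) ∈ K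
  sq : ∀ g ∈ K, (∀ j, pderiv j g ∈ K) → g ∈ K ^ 2

variable {a : O} (P : Pres O r a)

/-- The ideal `a + K`. -/
noncomputable def Pres.K' : Ideal (MvPolynomial (Fin r) O) := Ideal.span {C a} ⊔ P.K

theorem Pres.deriv_mem' {Φ : MvPolynomial (Fin r) O} (hΦ : Φ ∈ P.K') (j : Fin r) : pderiv j Φ ∈ P.K' := by
  obtain ⟨u, hu, g, hg, rfl⟩ := Submodule.mem_sup.1 hΦ
  obtain ⟨v, rfl⟩ := Ideal.mem_span_singleton'.1 hu
  rw [map_add, mul_comm, pderiv_C_mul]
  exact add_mem (Ideal.mem_sup_left (Ideal.mul_mem_right _ _ (Ideal.subset_span rfl))) (P.deriv_mem g hg j)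

theorem Pres.iterate_mem' {Φ : MvPolynomial (Fin r) O} (hΦ : Φ ∈ P.K') (j : Fin r) :
    ∀ k, (pderiv j)^[k] Φ ∈ P.K' := by
  intro k
  induction k with
  | zero => exact hΦ
  | succ k ih => rw [Function.iterate_succ_apply']; exact P.deriv_mem' ih j

variable (a) in
/-- `α J` -/
noncomputable def aI (J : Ideal S) : Ideal S := Ideal.span {algebraMap O S a} * J

theorem aI_le (J : Ideal S) : aI a J ≤ Ideal.span {algebraMap O S a} := Ideal.mul_le_left

theorem aI_mono {J J' : Ideal S} (h : J ≤ J') : aI a J ≤ aI a J' := Ideal.mul_mono_right h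

theorem mul_mem_aI {u v : S} {m n k : ℕ} (hu : u ∈ aI a (dpPow hI m)) (hv : v ∈ dpPow hI n) (h : k ≤ m + n) :
    u * v ∈ aI a (dpPow hI k) := by
  rw [aI, Ideal.mem_span_singleton_mul] at hu ⊢
  obtain ⟨x, hx, rfl⟩ := hu
  exact ⟨x * v, mul_mem_dpPow hI hx hv h, by ring⟩

theorem span_mul_mem_aI {u v : S} {n : ℕ} (hu : u ∈ Ideal.span {algebraMap O S a}) (hv : v ∈ dpPow hI n) :
    u * v ∈ aI a (dpPow hI n) := Ideal.mul_mem_mul hu hv

/-- `s` is a point of `K` modulo `a`. -/
def Pres.Good (J : Ideal S) (s : Fin r → S) : Prop := ∀ g ∈ P.K, aeval s g ∈ aI a J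

theorem Pres.eval_K' {J : Ideal S} {s : Fin r → S} (hs : P.Good J s) {Φ : MvPolynomial (Fin r) O}
    (hΦ : Φ ∈ P.K') : aeval s Φ ∈ Ideal.span {algebraMap O S a} := by
  obtain ⟨u, hu, g, hg, rfl⟩ := Submodule.mem_sup.1 hΦ
  obtain ⟨v, rfl⟩ := Ideal.mem_span_singleton'.1 hu
  rw [map_add, map_mul, aeval_C]
  exact add_mem (Ideal.mul_mem_left _ _ (Ideal.subset_span rfl)) (aI_le _ (hs g hg))

theorem Pres.shift_one {n : ℕ} (hn : 1 ≤ n) {J : Ideal S} {s : Fin r → S} (hs : P.Good J s)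
    {δ : S} (hδ : δ ∈ dpPow hI n) (j : Fin r) {Φ : MvPolynomial (Fin r) O} (hΦ : Φ ∈ P.K') :
    aeval (Function.update s j (s j + δ)) Φ - aeval s Φ - aeval s (pderiv j Φ) * δ
      ∈ aI a (dpPow hI (n + 1)) := by
  have hδI := dpPow_le_ideal hI hn hδ
  obtain ⟨N₀, hN₀⟩ := exists_taylor hI hδI j s Φ
  rw [hN₀ (N₀ + 2) (by omega), Finset.sum_range_succ', Finset.sum_range_succ']
  simp only [Function.iterate_zero, id_eq, zero_add, hI.dpow_zero hδI, one_mul, hI.dpow_one hδI]
  have h : ∑ k ∈ Finset.range N₀, hI.dpow (k + 1 + 1) δ * aeval s ((pderiv j)^[k + 1 + 1] Φ)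
      ∈ aI a (dpPow hI (n + 1)) := sum_mem fun k _ => by
    rw [mul_comm]
    exact span_mul_mem_aI hI (P.eval_K' hs (P.iterate_mem' hΦ j _))
      ((dpow_mem_dpPow hI hn hδ _).2 (by omega))
  rw [Function.iterate_one]
  convert h using 1
  ring

theorem Pres.shift {n : ℕ} (hn : 1 ≤ n) {J : Ideal S} {s : Fin r → S} (hs : P.Good J s)
    {δ : Fin r → S} (hδ : ∀ j, δ j ∈ dpPow hI n) (T : Finset (Fin r))
    (Φ : MvPolynomial (Fin r) O) (hΦ : Φ ∈ P.K') :
    aeval (T.piecewise (s + δ) s) Φ - aeval s Φ - ∑ j ∈ T, aeval s (pderiv j Φ) * δ j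
      ∈ aI a (dpPow hI (n + 1)) := by
  induction T using Finset.induction_on generalizing Φ with
  | empty => simp
  | @insert j T hj ih =>
    set t := T.piecewise (s + δ) s with ht
    have hd : ∀ Ψ ∈ P.K', aeval t Ψ - aeval s Ψ ∈ aI a (dpPow hI n) := fun Ψ hΨ => by
      have h1 : ∑ i ∈ T, aeval s (pderiv i Ψ) * δ i ∈ aI a (dpPow hI n) := sum_mem fun i _ =>
        span_mul_mem_aI hI (P.eval_K' hs (P.deriv_mem' hΨ i)) (hδ i)
      have h2 := (aI_mono (a := a) (dpPow_anti hI (Nat.le_succ n))) (ih Ψ hΨ)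
      simpa using add_mem h2 h1
    have htgood : P.Good (S := S) ⊤ t := fun g hg => by
      rw [aI, Ideal.mul_top]
      have := add_mem (aI_le _ (hd g (Ideal.mem_sup_right hg))) (aI_le _ (hs g hg))
      simpa using this
    have htj : t j = s j := Finset.piecewise_eq_of_notMem _ _ _ hj
    have h3 : (insert j T).piecewise (s + δ) s = Function.update t j (t j + δ j) := by
      rw [Finset.piecewise_insert, htj, ← ht, Pi.add_apply]
    have h4 := P.shift_one hI hn htgood (hδ j) j hΦ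
    have h5 : (aeval t (pderiv j Φ) - aeval s (pderiv j Φ)) * δ j ∈ aI a (dpPow hI (n + 1)) :=
      mul_mem_aI hI (hd _ (P.deriv_mem' hΦ j)) (hδ j) (by omega)
    rw [h3, Finset.sum_insert hj]
    have h6 := add_mem (add_mem h4 h5) (ih Φ hΦ)
    convert h6 using 1
    ring

theorem Pres.shift_univ {n : ℕ} (hn : 1 ≤ n) {J : Ideal S} {s : Fin r → S} (hs : P.Good J s)
    {δ : Fin r → S} (hδ : ∀ j, δ j ∈ dpPow hI n)
    (Φ : MvPolynomial (Fin r) O) (hΦ : Φ ∈ P.K') :
    aeval (s + δ) Φ - aeval s Φ - ∑ j, aeval s (pderiv j Φ) * δ j ∈ aI a (dpPow hI (n + 1)) := by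
  simpa using P.shift hI hn hs hδ Finset.univ Φ hΦ

theorem Pres.eval_gen {n : ℕ} (hn : 1 ≤ n) {s : Fin r → S} (hs : P.Good (dpPow hI n) s)
    {δ : Fin r → S} (hδ : ∀ j, δ j ∈ dpPow hI n) (i : Fin r) :
    aeval (s + δ) (P.gen i) - aeval s (P.gen i) - algebraMap O S a * δ i ∈ aI a (dpPow hI (n + 1)) := by
  have h1 := P.shift_univ hI hn hs hδ (P.gen i) (Ideal.mem_sup_right (P.gen_mem i))
  have h2 : ∑ j, aeval s (pderiv j (P.gen i) - (if i = j then C a else 0)) * δ j
      ∈ aI a (dpPow hI (n + 1)) := sum_mem fun j _ => mul_mem_aI hI (hs _ (P.deriv_gen i j)) (hδ j) (by omega)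
  convert add_mem h1 h2 using 1
  simp only [map_sub, sub_mul, Finset.sum_sub_distrib, apply_ite (aeval s), map_zero, aeval_C, ite_mul, zero_mul,
    Finset.sum_ite_eq, Finset.mem_univ, if_true]
  ring

theorem Pres.exists_step {n : ℕ} (hn : 1 ≤ n) {s : Fin r → S} (hs : P.Good (dpPow hI n) s) :
    ∃ δ : Fin r → S, (∀ j, δ j ∈ dpPow hI n) ∧ P.Good (dpPow hI (n + 1)) (s + δ) := by
  have h : ∀ i, ∃ e ∈ dpPow hI n, algebraMap O S a * e = aeval s (P.gen i) := fun i =>
    Ideal.mem_span_singleton_mul.1 (hs _ (P.gen_mem i))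
  choose e he hea using h
  have hδ : ∀ j, (-e) j ∈ dpPow hI n := fun j => neg_mem (he j)
  refine ⟨-e, hδ, fun g hg => ?_⟩
  have hgen : ∀ i, aeval (s + -e) (P.gen i) ∈ aI a (dpPow hI (n + 1)) := fun i => by
    have := P.eval_gen hI hn hs hδ i
    rw [Pi.neg_apply, mul_neg, hea, sub_neg_eq_add, sub_add_cancel] at this
    exact this
  have hgood : P.Good (dpPow hI n) (s + -e) := fun f hf => by
    have h1 := (aI_mono (a := a) (dpPow_anti hI (Nat.le_succ n))) (P.shift_univ hI hn hs hδ f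
      (Ideal.mem_sup_right hf))
    have h2 : ∑ j, aeval s (pderiv j f) * (-e) j ∈ aI a (dpPow hI n) := sum_mem fun j _ =>
      span_mul_mem_aI hI (P.eval_K' hs (P.deriv_mem f hf j)) (hδ j)
    simpa using add_mem (add_mem h1 h2) (hs f hf)
  have hc : ∀ i, ∃ c : MvPolynomial (Fin r) O, pderiv i g - c * C a ∈ P.K := fun i => by
    obtain ⟨u, hu, k, hk, huk⟩ := Submodule.mem_sup.1 (P.deriv_mem g hg i)
    obtain ⟨v, rfl⟩ := Ideal.mem_span_singleton'.1 hu
    exact ⟨v, by rwa [← huk, add_sub_cancel_left]⟩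
  choose c hc using hc
  have hsum : ∑ i, c i * P.gen i ∈ P.K := sum_mem fun i _ => Ideal.mul_mem_left _ _ (P.gen_mem i)
  have hh : g - ∑ i, c i * P.gen i ∈ P.K ^ 2 := by
    refine P.sq _ (sub_mem hg hsum) fun j => ?_
    have h1 : ∑ i, (pderiv j (c i) * P.gen i + c i * (pderiv j (P.gen i) - (if i = j then C a else 0))) ∈ P.K :=
      sum_mem fun i _ => add_mem (Ideal.mul_mem_left _ _ (P.gen_mem i)) (Ideal.mul_mem_left _ _ (P.deriv_gen i j))
    convert sub_mem (hc j) h1 using 1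
    simp only [map_sub, map_sum, pderiv_mul, mul_sub, Finset.sum_add_distrib, Finset.sum_sub_distrib, mul_ite,
      mul_zero, Finset.sum_ite_eq', Finset.mem_univ, if_true]
    ring
  have hh' : aeval (s + -e) (g - ∑ i, c i * P.gen i) ∈ aI a (dpPow hI (n + 1)) := by
    rw [pow_two] at hh
    generalize g - ∑ i, c i * P.gen i = h at hh ⊢
    induction hh using Submodule.mul_induction_on' with
    | mem_mul_mem x hx y hy =>
      obtain ⟨x', hx', ex⟩ := Ideal.mem_span_singleton_mul.1 (hgood x hx)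
      rw [map_mul, ← ex, mul_assoc]
      obtain ⟨y', hy', ey⟩ := Ideal.mem_span_singleton_mul.1 (hgood y hy)
      refine Ideal.mem_span_singleton_mul.2 ⟨x' * aeval (s + -e) y, ?_, rfl⟩
      rw [← ey, mul_left_comm]
      exact Ideal.mul_mem_left _ _ (mul_mem_dpPow hI hx' hy' (by omega))
    | add x _ y _ ihx ihy => rw [map_add]; exact add_mem ihx ihy
  have h3 : aeval (s + -e) (∑ i, c i * P.gen i) ∈ aI a (dpPow hI (n + 1)) := by
    rw [map_sum]
    exact sum_mem fun i _ => by rw [map_mul]; exact Ideal.mul_mem_left _ _ (hgen i)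
  simpa using add_mem hh' h3

end Groth.Agent.FontLift
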